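import Mathlib

/-!
Universe polymorphic cyclic Hilbert 90 (multiplicative form).
-/

set_option autoImplicit false
universe u v

namespace Groth.Agent.Helper6.TateH

theorem hilbert90 {K : Type u} {L : Type v} [Field K] [Field L] [Algebra K L]
    [FiniteDimensional K L] [IsGalois K L] (σ : L ≃ₐ[K] L)
    (hσ : ∀ τ : L ≃ₐ[K] L, τ ∈ Subgroup.zpowers σ) (y : L)
    (hy : Algebra.norm K y = 1) : ∃ β : L, β ≠ 0 ∧ y * σ β = β := by
  classical
  obtain ⟨n, hn⟩ : ∃ n, n = orderOf σ := ⟨_, rfl⟩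
  have hnpos : 0 < n := hn ▸ orderOf_pos σ
  have hσn : σ ^ n = 1 := hn ▸ pow_orderOf_eq_one σ
  obtain ⟨P, hPdef⟩ : ∃ P : ℕ → L, P = fun i => ∏ j ∈ Finset.range i, (σ ^ j) y := ⟨_, rfl⟩
  have hP0 : P 0 = 1 := by rw [hPdef]; simp
  have hPs : ∀ i, P (i + 1) = y * σ (P i) := by
    intro i
    rw [hPdef]
    show ∏ j ∈ Finset.range (i + 1), (σ ^ j) y = y * σ (∏ j ∈ Finset.range i, (σ ^ j) y)
    rw [Finset.prod_range_succ', map_prod, pow_zero, AlgEquiv.one_apply, mul_comm]
    congr 1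
    apply Finset.prod_congr rfl
    intro j _
    rw [pow_succ', AlgEquiv.mul_apply]
  have h2 : ∏ τ : L ≃ₐ[K] L, τ y = 1 := by
    rw [← Algebra.norm_eq_prod_automorphisms K y, hy, map_one]
  have hPn : P n = 1 := by
    have himg : ∏ τ ∈ Finset.image (fun i => σ ^ i) (Finset.range (orderOf σ)), τ y
        = ∏ j ∈ Finset.range (orderOf σ), (σ ^ j) y := by
      rw [Finset.prod_image]
      intro i hi j hj hij
      exact pow_injOn_Iio_orderOf (by simpa using hi) (by simpa using hj) hij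
    rw [IsCyclic.image_range_orderOf hσ] at himg
    rw [hPdef]
    show ∏ j ∈ Finset.range n, (σ ^ j) y = 1
    rw [hn, ← himg, h2]
  -- independence of characters
  let g : Fin n → (L →* L) := fun i => ((σ ^ (i : ℕ) : L ≃ₐ[K] L) : L →* L)
  have hinj : Function.Injective g := by
    intro i j hij
    have h1 : σ ^ (i : ℕ) = σ ^ (j : ℕ) := by
      ext x
      exact DFunLike.congr_fun hij x
    have hi : (i : ℕ) ∈ Set.Iio (orderOf σ) := by rw [← hn]; exact i.2
    have hj : (j : ℕ) ∈ Set.Iio (orderOf σ) := by rw [← hn]; exact j.2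
    exact Fin.ext (pow_injOn_Iio_orderOf hi hj h1)
  have hli := Fintype.linearIndependent_iff.mp ((linearIndependent_monoidHom L L).comp g hinj)
  obtain ⟨θ, hθ⟩ : ∃ θ : L, ∑ i ∈ Finset.range n, P i * (σ ^ i) θ ≠ 0 := by
    by_contra hcon
    push Not at hcon
    have hsum : ∑ i : Fin n, (fun i : Fin n => P i) i •
        ((fun f : L →* L => (f : L → L)) ∘ g) i = 0 := by
      funext θ
      have h3 := hcon θ
      rw [Finset.sum_range] at h3
      rw [Finset.sum_apply, Pi.zero_apply]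
      exact (Finset.sum_congr rfl (fun i _ => rfl)).trans h3
    have h4 := hli _ hsum ⟨0, hnpos⟩
    simp only [hP0] at h4
    exact one_ne_zero h4
  refine ⟨∑ i ∈ Finset.range n, P i * (σ ^ i) θ, hθ, ?_⟩
  have h4 : y * σ (∑ i ∈ Finset.range n, P i * (σ ^ i) θ)
      = ∑ i ∈ Finset.range n, P (i + 1) * (σ ^ (i + 1)) θ := by
    rw [map_sum, Finset.mul_sum]
    apply Finset.sum_congr rfl
    intro i _
    rw [map_mul, hPs, pow_succ', AlgEquiv.mul_apply, mul_assoc]
  rw [h4]
  obtain ⟨f, hf⟩ : ∃ f : ℕ → L, f = fun i => P i * (σ ^ i) θ := ⟨_, rfl⟩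
  have hf0n : f 0 = f n := by
    rw [hf]
    show P 0 * (σ ^ 0) θ = P n * (σ ^ n) θ
    rw [hP0, hPn, hσn, pow_zero]
  have h5 := Finset.sum_range_succ' f n
  have h6 := Finset.sum_range_succ f n
  have h8 : ∑ k ∈ Finset.range n, f (k + 1) = ∑ k ∈ Finset.range n, f k := by
    have h7 := h5.symm.trans h6
    rw [hf0n] at h7
    exact add_right_cancel h7
  rw [hf] at h8
  exact h8

end Groth.Agent.Helper6.TateH
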