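import Mathlib
import Groth.Agent.Lib.Helper1.CiField

/-!
Over a `C_1` field the norm map of every finite extension is surjective.
-/

set_option autoImplicit false
universe u v

namespace Groth.Agent.Helper6.TateH

open MvPolynomial

theorem norm_surjective_aux {K : Type u} [Field K] {L : Type v} [Field L] [Algebra K L]
    [FiniteDimensional K L] (hK : Curves.IsCi K 1) {m : ℕ} (hmpos : 0 < m)
    (e : Module.Basis (Fin m) K L) (a : K) :
    ∃ z : L, Algebra.norm K z = a := by
  classical
  have hfr : Module.finrank K L = m := by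
    rw [Module.finrank_eq_card_basis e, Fintype.card_fin]
  let Mat : Matrix (Fin m) (Fin m) (MvPolynomial (Fin (m + 1)) K) :=
    fun i l => ∑ j : Fin m, C (Algebra.leftMulMatrix e (e j) i l) * X (Fin.castSucc j)
  let F : MvPolynomial (Fin (m + 1)) K := Mat.det - C a * X (Fin.last m) ^ m
  have hMat : ∀ i l, (Mat i l).IsHomogeneous 1 := fun i l =>
    IsHomogeneous.sum _ _ _ fun j _ => isHomogeneous_C_mul_X _ _
  have hdet : Mat.det.IsHomogeneous m := by
    rw [Matrix.det_apply]
    apply IsHomogeneous.sum
    intro σ _
    have h1 : (∏ j, Mat (σ j) j).IsHomogeneous (∑ _j : Fin m, 1) :=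
      IsHomogeneous.prod _ _ _ fun j _ => hMat _ _
    simp only [Finset.sum_const, Finset.card_univ, Fintype.card_fin, smul_eq_mul, mul_one] at h1
    rcases Int.units_eq_one_or (Equiv.Perm.sign σ) with h | h
    · rw [h, one_smul]; exact h1
    · rw [h, Units.neg_smul, one_smul]; exact h1.neg
  have h2 : (C a * X (Fin.last m) ^ m : MvPolynomial (Fin (m + 1)) K).IsHomogeneous m := by
    have := (isHomogeneous_C (Fin (m + 1)) a).mul ((isHomogeneous_X K (Fin.last m)).pow m)
    simpa using this
  have hF : F.IsHomogeneous m := hdet.sub h2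
  obtain ⟨x, hx0, hx⟩ := hK 1 (m + 1) (fun _ => F) (fun _ => m) (fun _ => hF) (fun _ => hmpos)
    (by simp)
  have hxF : eval x F = 0 := hx 0
  let z : L := ∑ j : Fin m, x (Fin.castSucc j) • e j
  have hz : Algebra.leftMulMatrix e z
      = ∑ j, x (Fin.castSucc j) • Algebra.leftMulMatrix e (e j) := by
    simp only [z, map_sum, map_smul]
  have hMz : (eval x).mapMatrix Mat = Algebra.leftMulMatrix e z := by
    rw [hz]
    ext i l
    simp only [RingHom.mapMatrix_apply, Matrix.map_apply, Mat, map_sum, map_mul, eval_C, eval_X,
      Matrix.sum_apply, Matrix.smul_apply, smul_eq_mul]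
    apply Finset.sum_congr rfl
    intro j _
    ring
  have hnorm : Algebra.norm K z = a * x (Fin.last m) ^ m := by
    have h3 : eval x F = Algebra.norm K z - a * x (Fin.last m) ^ m := by
      simp only [F, map_sub, map_mul, map_pow, eval_C, eval_X]
      rw [RingHom.map_det, hMz, ← Algebra.norm_eq_matrix_det]
    rw [h3] at hxF
    exact sub_eq_zero.mp hxF
  by_cases hlast : x (Fin.last m) = 0
  · exfalso
    rw [hlast, zero_pow hmpos.ne', mul_zero] at hnorm
    have hz0 : z = 0 := Algebra.norm_eq_zero_iff.mp hnorm
    apply hx0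
    funext i
    show x i = 0
    refine Fin.lastCases (motive := fun i => x i = 0) hlast (fun j => ?_) i
    exact (Fintype.linearIndependent_iff.mp e.linearIndependent)
      (fun j => x (Fin.castSucc j)) hz0 j
  · refine ⟨algebraMap K L (x (Fin.last m))⁻¹ * z, ?_⟩
    rw [map_mul, Algebra.norm_algebraMap, hfr, hnorm, inv_pow]
    field_simp

/-- over a `C_1` field the norm of a finite extension is surjective -/
theorem norm_surjective_of_isCi {K : Type u} [Field K] {L : Type v} [Field L] [Algebra K L]
    [FiniteDimensional K L] (hK : Curves.IsCi K 1) :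
    Function.Surjective (Algebra.norm K : L → K) := by
  intro a
  exact norm_surjective_aux hK Module.finrank_pos (Module.finBasis K L) a

end Groth.Agent.Helper6.TateH
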