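import Mathlib
import Groth.Agent.Lib.Helper6.TateH.NormSurj
import Groth.Agent.Lib.Helper6.TateH.Hilb90

/-!
`Ĥ^{-1}(G, Lˣ) = 0` for `p`-groups over `C_1` fields.
-/

set_option autoImplicit false
universe u

namespace Groth.Agent.Helper6.TateH

section defs

variable (K : Type u) (L : Type u) [Field K] [Field L] [Algebra K L]

/-- the subgroup `I_G Lˣ` generated by the `w / g w` -/
def IG : Subgroup Lˣ :=
  Subgroup.closure {v : Lˣ | ∃ (w : Lˣ) (g : L ≃ₐ[K] L), (v : L) = (w : L) / g (w : L)}

variable {K L}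

/-- the generator `w / g w` as a unit -/
def gen (w : Lˣ) (g : L ≃ₐ[K] L) : Lˣ := w / Units.map (g : L →* L) w

theorem gen_val (w : Lˣ) (g : L ≃ₐ[K] L) : ((gen w g : Lˣ) : L) = (w : L) / g (w : L) := by
  simp [gen, Units.val_div_eq_div_val]

theorem gen_mem (w : Lˣ) (g : L ≃ₐ[K] L) : gen w g ∈ IG K L :=
  Subgroup.subset_closure ⟨w, g, gen_val w g⟩

theorem IG_le_of_tower (E : Type u) [Field E] [Algebra K E] [Algebra E L] [IsScalarTower K E L] :
    IG E L ≤ IG K L := by
  apply Subgroup.closure_mono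
  rintro v ⟨w, g, hv⟩
  exact ⟨w, g.restrictScalars K, hv⟩

end defs

theorem pgroup_case (p : ℕ) [hp : Fact p.Prime] : ∀ (n : ℕ) (K L : Type u) [Field K] [Field L]
    [Algebra K L] [FiniteDimensional K L] [IsGalois K L], Module.finrank K L = p ^ n →
    Curves.IsCi K 1 → ∀ u : Lˣ, Algebra.norm K (u : L) = 1 → u ∈ IG K L := by
  intro n
  induction n with
  | zero =>
    intro K L _ _ _ _ _ hfr hK u hu
    have hcard : Nat.card (L ≃ₐ[K] L) = 1 := by rw [IsGalois.card_aut_eq_finrank, hfr, pow_zero]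
    have h1 := Algebra.norm_eq_prod_automorphisms K (u : L)
    rw [hu, map_one] at h1
    haveI : Subsingleton (L ≃ₐ[K] L) := (Nat.card_eq_one_iff_unique.mp hcard).1
    rw [Fintype.prod_subsingleton _ (1 : L ≃ₐ[K] L), AlgEquiv.one_apply] at h1
    have : u = 1 := Units.ext h1.symm
    rw [this]; exact one_mem _
  | succ n ih =>
    intro K L _ _ _ _ _ hfr hK u hu
    classical
    have hcard : Nat.card (L ≃ₐ[K] L) = p ^ (n + 1) := by
      rw [IsGalois.card_aut_eq_finrank, hfr]
    obtain ⟨H, hH⟩ := Sylow.exists_subgroup_card_pow_prime (G := L ≃ₐ[K] L) p (n := n)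
      (by rw [hcard]; exact pow_dvd_pow p (Nat.le_succ n))
    have hidx : H.index = p := by
      have h1 := H.card_mul_index
      rw [hH, hcard, pow_succ] at h1
      exact Nat.eq_of_mul_eq_mul_left (pow_pos hp.out.pos n) h1
    haveI hHn : H.Normal := Subgroup.normal_of_index_eq_minFac_card (by
      rw [hidx, hcard, Nat.Prime.pow_minFac hp.out (Nat.succ_ne_zero n)])
    obtain ⟨E, hE⟩ : ∃ E : IntermediateField K L, E = IntermediateField.fixedField H := ⟨_, rfl⟩
    haveI : IsGalois K E := by rw [hE]; infer_instance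
    have hEL : Module.finrank E L = p ^ n := by
      rw [hE, IntermediateField.finrank_fixedField_eq_card, hH]
    have hKE : Module.finrank K E = p := by
      have h1 := Module.finrank_mul_finrank K E L
      rw [hEL, hfr, pow_succ'] at h1
      exact Nat.eq_of_mul_eq_mul_right (pow_pos hp.out.pos n) h1
    have hEC : Curves.IsCi E 1 := Groth.Agent.Helper1.CiField.isCi_of_finite K E 1 hK
    have hcardE : Nat.card (E ≃ₐ[K] E) = p := by rw [IsGalois.card_aut_eq_finrank, hKE]
    haveI : IsCyclic (E ≃ₐ[K] E) := isCyclic_of_prime_card hcardE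
    obtain ⟨τ, hτ⟩ := IsCyclic.exists_generator (α := E ≃ₐ[K] E)
    have hy : Algebra.norm K (Algebra.norm E (u : L)) = 1 := by rw [Algebra.norm_norm, hu]
    obtain ⟨β, hβ0, hβ⟩ := hilbert90 τ hτ (Algebra.norm E (u : L)) hy
    obtain ⟨z, hz⟩ := norm_surjective_of_isCi (L := L) hEC β
    have hz0 : z ≠ 0 := by
      rintro rfl
      rw [Algebra.norm_zero] at hz
      exact hβ0 hz.symm
    obtain ⟨σ, hσ⟩ := AlgEquiv.restrictNormalHom_surjective (F := K) (K₁ := E) L τ
    have hcomp : (algebraMap E L).comp (τ.toRingEquiv : E →+* E)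
        = (σ.toRingEquiv : L →+* L).comp (algebraMap E L) := by
      ext x
      show algebraMap E L (τ x) = σ (algebraMap E L x)
      rw [← hσ]
      exact AlgEquiv.restrictNormal_commutes σ E x
    have hnσ : Algebra.norm E (σ z) = τ (Algebra.norm E z) := by
      have h1 := Algebra.norm_eq_of_equiv_equiv (A₁ := E) (B₁ := L) (A₂ := E) (B₂ := L)
        τ.toRingEquiv σ.toRingEquiv hcomp z
      have h2 : τ (Algebra.norm E z) = Algebra.norm E (σ z) := by
        rw [h1]
        exact τ.toRingEquiv.apply_symm_apply _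
      exact h2.symm
    let zu : Lˣ := Units.mk0 z hz0
    have hu' : Algebra.norm E ((u * (gen zu σ)⁻¹ : Lˣ) : L) = 1 := by
      have hval : ((u * (gen zu σ)⁻¹ : Lˣ) : L) = (u : L) * (σ z / z) := by
        rw [Units.val_mul, Units.val_inv_eq_inv_val, gen_val, inv_div]
        rfl
      rw [hval, div_eq_mul_inv, map_mul, map_mul, Algebra.norm_inv, hnσ, hz, ← mul_assoc, hβ,
        mul_inv_cancel₀ hβ0]
    have hmem := ih E L hEL hEC _ hu'
    have hmem' : u * (gen zu σ)⁻¹ ∈ IG K L := IG_le_of_tower E hmem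
    have h9 := mul_mem hmem' (gen_mem zu σ)
    simpa using h9

end Groth.Agent.Helper6.TateH
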