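import Mathlib
import Groth.Agent.Lib.Helper6.TateH.PGroup

/-!
`Ĥ^{-1}(Gal(L/K), Lˣ) = 0` for finite Galois extensions of `C_1` fields (Sylow reduction).
-/

set_option autoImplicit false
universe u

namespace Groth.Agent.Helper6.TateH

theorem main (K L : Type u) [Field K] [Field L] [Algebra K L] [FiniteDimensional K L]
    [IsGalois K L] (hK : Curves.IsCi K 1) (u : Lˣ) (hu : Algebra.norm K (u : L) = 1) :
    u ∈ IG K L := by
  classical
  obtain ⟨N, hN⟩ : ∃ N, N = Nat.card (L ≃ₐ[K] L) := ⟨_, rfl⟩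
  have hNpos : N ≠ 0 := by rw [hN]; exact Nat.card_pos.ne'
  have hprod : ∏ g : L ≃ₐ[K] L, g (u : L) = 1 := by
    rw [← Algebra.norm_eq_prod_automorphisms K (u : L), hu, map_one]
  let act : (L ≃ₐ[K] L) → Lˣ → Lˣ := fun g w => Units.map (g : L →* L) w
  have hact : ∀ (g : L ≃ₐ[K] L) (w : Lˣ), ((act g w : Lˣ) : L) = g (w : L) := fun g w => rfl
  have hprodU : ∏ g : L ≃ₐ[K] L, act g u = 1 := by
    apply Units.ext
    rw [Units.coe_prod]
    simpa [hact] using hprod
  have hgen : ∀ g : L ≃ₐ[K] L, u = gen u g * act g u := by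
    intro g
    show u = u / Units.map (g : L →* L) u * Units.map (g : L →* L) u
    rw [div_mul_cancel]
  have hB : u ^ N ∈ IG K L := by
    have h1 : u ^ N = ∏ g : L ≃ₐ[K] L, gen u g := by
      have h2 : ∏ g : L ≃ₐ[K] L, u = (∏ g : L ≃ₐ[K] L, gen u g) * ∏ g : L ≃ₐ[K] L, act g u := by
        rw [← Finset.prod_mul_distrib]
        exact Finset.prod_congr rfl (fun g _ => hgen g)
      rw [hprodU, mul_one, Finset.prod_const, Finset.card_univ, ← Nat.card_eq_fintype_card,
        ← hN] at h2
      exact h2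
    rw [h1]
    exact Subgroup.prod_mem _ (fun g _ => gen_mem u g)
  have hC : ∀ q : ℕ, q.Prime → u ^ (N / q ^ N.factorization q) ∈ IG K L := by
    intro q hq
    haveI : Fact q.Prime := ⟨hq⟩
    obtain ⟨P, hP⟩ := Sylow.exists_subgroup_card_pow_prime (G := L ≃ₐ[K] L) q
      (n := N.factorization q) (by rw [← hN]; exact Nat.ordProj_dvd N q)
    obtain ⟨E, hE⟩ : ∃ E : IntermediateField K L, E = IntermediateField.fixedField P := ⟨_, rfl⟩
    have hEL : Module.finrank E L = q ^ N.factorization q := by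
      rw [hE, IntermediateField.finrank_fixedField_eq_card, hP]
    have hEC : Curves.IsCi E 1 := Groth.Agent.Helper1.CiField.isCi_of_finite K E 1 hK
    have hfix : E.fixingSubgroup = P := by
      rw [hE]; exact IntermediateField.fixingSubgroup_fixedField P
    obtain ⟨R, hR, -⟩ := Subgroup.exists_isComplement_right E.fixingSubgroup (1 : L ≃ₐ[K] L)
    haveI : Fintype R := Fintype.ofFinite R
    have hR' : Function.Bijective
        (fun x : ↥(E.fixingSubgroup : Set (L ≃ₐ[K] L)) × ↥R =>
          (x.1 : L ≃ₐ[K] L) * (x.2 : L ≃ₐ[K] L)) := hR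
    have hbij : Function.Bijective (fun x : (L ≃ₐ[E] L) × R =>
        (((IntermediateField.fixingSubgroupEquiv E).symm x.1 : E.fixingSubgroup) : L ≃ₐ[K] L)
          * (x.2 : L ≃ₐ[K] L)) := by
      have h1 : Function.Bijective
          (Prod.map (IntermediateField.fixingSubgroupEquiv E).symm (id : R → R)) :=
        (MulEquiv.bijective _).prodMap Function.bijective_id
      exact Function.Bijective.comp hR' h1
    -- the restriction element
    obtain ⟨v, hv⟩ : ∃ v : Lˣ, v = ∏ r : R, act (r : L ≃ₐ[K] L) u := ⟨_, rfl⟩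
    have hvval : (v : L) = ∏ r : R, (r : L ≃ₐ[K] L) (u : L) := by
      rw [hv, Units.coe_prod]
      exact Finset.prod_congr rfl (fun r _ => rfl)
    have hnv : Algebra.norm E (v : L) = 1 := by
      apply FaithfulSMul.algebraMap_injective E L
      rw [Algebra.norm_eq_prod_automorphisms E (v : L), map_one, ← hprod]
      rw [← Fintype.prod_bijective _ hbij (fun x => ((((IntermediateField.fixingSubgroupEquiv E).symm
        x.1 : E.fixingSubgroup) : L ≃ₐ[K] L) * (x.2 : L ≃ₐ[K] L)) (u : L)) (fun g => g (u : L))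
        (fun _ => rfl), Fintype.prod_prod_type]
      apply Finset.prod_congr rfl
      intro τ _
      rw [hvval, map_prod]
      exact Finset.prod_congr rfl (fun r _ => rfl)
    have hvmem : v ∈ IG K L :=
      IG_le_of_tower E (pgroup_case q (N.factorization q) E L hEL hEC v hnv)
    -- `u ^ card R = (∏ gen) * v`
    have hcardR : Fintype.card R = N / q ^ N.factorization q := by
      have h0 : Nat.card R = E.fixingSubgroup.index := hR.card_right
      have h1 := E.fixingSubgroup.card_mul_index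
      have h2 : Nat.card E.fixingSubgroup = q ^ N.factorization q := by
        rw [hfix]; exact hP
      rw [h2, ← hN, ← h0, Nat.card_eq_fintype_card] at h1
      exact (Nat.div_eq_of_eq_mul_right (pow_pos hq.pos _) h1.symm).symm
    have h3 : u ^ Fintype.card R = (∏ r : R, gen u (r : L ≃ₐ[K] L)) * v := by
      rw [hv, ← Finset.prod_mul_distrib, ← Finset.card_univ, ← Finset.prod_const]
      exact Finset.prod_congr rfl (fun r _ => hgen r)
    rw [← hcardR, h3]
    have h4 : (∏ r : R, gen u (r : L ≃ₐ[K] L)) ∈ IG K L :=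
      Subgroup.prod_mem (IG K L) (fun r _ => gen_mem u (r : L ≃ₐ[K] L))
    exact (IG K L).mul_mem h4 hvmem
  -- conclusion
  by_contra hnot
  obtain ⟨ū, hū⟩ : ∃ ū : Lˣ ⧸ IG K L, ū = QuotientGroup.mk u := ⟨_, rfl⟩
  have hne : ū ≠ 1 := fun h => hnot ((QuotientGroup.eq_one_iff u).mp (hū ▸ h))
  have hord1 : orderOf ū ≠ 1 := fun h => hne (orderOf_eq_one_iff.mp h)
  obtain ⟨q, hq, hqd⟩ := Nat.exists_prime_and_dvd hord1
  have hdm : orderOf ū ∣ N / q ^ N.factorization q := orderOf_dvd_of_pow_eq_one (by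
    rw [hū, ← QuotientGroup.mk_pow, QuotientGroup.eq_one_iff]; exact hC q hq)
  exact Nat.not_dvd_ordCompl hq hNpos (hqd.trans hdm)

end Groth.Agent.Helper6.TateH
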